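import Cfsg.Agent.M11Elusive.Data
import Cfsg.Agent.Eq.Def_Spor_Mathieu

/-!
The order of M11 and fixed points of its elements of prime order in the degree 12 action.
-/

set_option autoImplicit false

open scoped Pointwise

namespace CfsgLib.M11Elusive

open Cfsg CfsgLib.Mathieu CfsgLib.Golay

theorem squareDodecad_eq : Spor.squareDodecad = ofMask maskD := by decide +kernel

theorem mem_M11 {g : Equiv.Perm GolayPt} :
    g ∈ Spor.M11 ↔ g ∈ M24 ∧ g • ofMask maskD = ofMask maskD ∧ g (i2p 0) = i2p 0 := by
  simp only [Spor.M11, Spor.M12, Subgroup.mem_inf, MulAction.mem_stabilizer_iff,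
    squareDodecad_eq, Equiv.Perm.smul_def, and_assoc]
  simp [i2p]

theorem toTab_injective : Function.Injective toTab := fun g h e => by
  ext p : 1
  exact p2i_injective (by rw [← app_toTab', e, app_toTab'])

theorem rep_seeds : ∀ t ∈ idTab :: seeds11, Rep Spor.M11 t := by
  intro t ht
  have h : (idTab :: seeds11).all (fun t => tabs24.contains t && maskStable t maskD && app t 0 == 0)
      = true := by decide +kernel
  simp only [List.all_eq_true, Bool.and_eq_true, beq_iff_eq] at h
  obtain ⟨⟨h1, h2⟩, h3⟩ := h t ht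
  obtain ⟨g, hg, rfl⟩ := rep_M24 h1
  refine ⟨g, mem_M11.2 ⟨hg, smul_ofMask_of_stable g _ h2, ?_⟩, rfl⟩
  rw [app_toTab g 0 (by norm_num)] at h3
  rw [← i2p_p2i (g (i2p 0)), h3]

/-- All tables known to lie in M11. -/
def tabs11 : List (List ℕ) :=
  (idTab :: seeds11) ++ prog11.map (fun e => e.2.2.2) ++ prog.map (fun e => e.2.2.2)

theorem rep11 : ∀ t ∈ tabs11, Rep Spor.M11 t := by
  intro t ht
  simp only [tabs11, List.mem_append] at ht
  rcases ht with (ht | ht) | ht
  · exact rep_seeds t ht
  · exact rep_of_progOK _ prog11 _ rep_seeds (by decide +kernel) t (List.mem_append_right _ ht)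
  · exact rep_of_progOK _ prog _ rep_seeds (by decide +kernel) t (List.mem_append_right _ ht)

theorem card_ge : 7920 ≤ Nat.card Spor.M11 := by
  have h := chainProd_le_card chain11 Spor.M11 (rep_chainIn rep11 (by decide +kernel))
    (by decide +kernel)
  rwa [show chainProd chain11 = 7920 from by decide +kernel] at h

/-- The stabiliser of the first points of the base. -/
def lev (k : ℕ) : Subgroup (Equiv.Perm GolayPt) := fixPts Spor.M11 ([1, 2, 3, 4].take k)

theorem fixPt_lev_le (k b : ℕ) (h : [1, 2, 3, 4].take (k + 1) = [1, 2, 3, 4].take k ++ [b]) :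
    fixPt (lev k) (i2p b) = lev (k + 1) := by
  ext g
  simp only [Subgroup.mem_inf, lev, mem_fixPts, MulAction.mem_stabilizer_iff, Equiv.Perm.smul_def,
    h, List.mem_append, List.mem_singleton, or_imp, forall_and, forall_eq, and_assoc]

theorem card_lev_four : Nat.card (lev 4) = 1 := by
  rw [Subgroup.card_eq_one, Subgroup.eq_bot_iff_forall]
  intro g hg
  obtain ⟨hg, hF⟩ := mem_fixPts.1 hg
  obtain ⟨h24, hD, h0⟩ := mem_M11.1 hg
  have hF5 : ∀ i ∈ base7.take 5, g (i2p i) = i2p i := by
    intro i hi
    rcases List.mem_cons.1 (show i ∈ 0 :: [1, 2, 3, 4] from hi) with rfl | h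
    · exact h0
    · exact hF i h
  have hb5 : g ∈ base7Fix 5 := mem_base7Fix.2 ⟨h24, hF5⟩
  have hO := octO_invariant le_rfl hb5
  have h12 : g (i2p 12) = i2p 12 := by
    have m1 : p2i (g (i2p 12)) < 24 := p2i_lt _
    have m2 : octO.testBit (p2i (g (i2p 12))) = true := by
      rw [← mem_ofMask_iff, ← hO, ← Equiv.Perm.smul_def, Finset.smul_mem_smul_finset_iff,
        mem_ofMask_iff]
      decide
    have m3 : maskD.testBit (p2i (g (i2p 12))) = true := by
      rw [← mem_ofMask_iff, ← hD, ← Equiv.Perm.smul_def, Finset.smul_mem_smul_finset_iff,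
        mem_ofMask_iff]
      decide
    have key : ∀ i < 24, octO.testBit i = true → maskD.testBit i = true →
        i ∈ base7.take 5 ∨ i = 12 := by decide +kernel
    rcases key _ m1 m2 m3 with h | h
    · have e := hF5 _ h
      rw [i2p_p2i] at e
      have e2 : g (i2p 12) = i2p 12 := g.injective e
      exact e2
    · rw [← i2p_p2i (g (i2p 12)), h]
  have hb6 : g ∈ base7Fix 6 := mem_base7Fix.2 ⟨h24, fun i hi => by
    rw [show base7.take 6 = base7.take 5 ++ [12] by decide, List.mem_append,
      List.mem_singleton] at hi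
    rcases hi with hi | rfl
    · exact hF5 i hi
    · exact h12⟩
  have hst : maskStable (toTab g) maskD = true := by
    simp only [maskStable, List.all_eq_true, List.mem_range, Bool.or_eq_true, Bool.not_eq_true']
    intro i hi
    refine or_iff_not_imp_left.2 fun h => ?_
    rw [app_toTab g i hi, ← mem_ofMask_iff, ← hD, ← Equiv.Perm.smul_def,
      Finset.smul_mem_smul_finset_iff, mem_ofMask_iff, p2i_i2p i hi]
    simpa using h
  have hall : octFix16.all (fun t => !maskStable t maskD || t == idTab) = true := by decide +kernel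
  simp only [List.all_eq_true, Bool.or_eq_true, Bool.not_eq_true', beq_iff_eq] at hall
  exact toTab_injective (((hall _ (toTab_mem_octFix16 hb6)).resolve_left (by simp [hst])).trans
    toTab_one.symm)

/-- The points of the dodecad other than the fixed ones. -/
def avail (k : ℕ) : List ℕ :=
  (List.range 24).filter fun i => maskD.testBit i && decide (i ∉ 0 :: [1, 2, 3, 4].take k)

theorem card_lev_step (k b n m : ℕ) (hk : [1, 2, 3, 4].take (k + 1) = [1, 2, 3, 4].take k ++ [b])
    (hb : b < 24) (hbD : maskD.testBit b = true) (hnb : b ∉ 0 :: [1, 2, 3, 4].take k)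
    (hn : (avail k).length = n) (hrec : Nat.card (lev (k + 1)) ≤ m) :
    Nat.card (lev k) ≤ n * m := by
  have h := card_le_step (lev k) b (avail k) fun g hg => by
    obtain ⟨hg, hF⟩ := mem_fixPts.1 hg
    obtain ⟨-, hD, h0⟩ := mem_M11.1 hg
    rw [avail, List.mem_filter, List.mem_range, Bool.and_eq_true, decide_eq_true_eq]
    refine ⟨p2i_lt _, ?_, fun hc => hnb ?_⟩
    · rw [← mem_ofMask_iff, ← hD, ← Equiv.Perm.smul_def, Finset.smul_mem_smul_finset_iff,
        mem_ofMask_iff, p2i_i2p b hb]
      exact hbD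
    · have e : g (i2p (p2i (g (i2p b)))) = i2p (p2i (g (i2p b))) := by
        rcases List.mem_cons.1 hc with h | h
        · rw [h]; exact h0
        · exact hF _ h
      rw [i2p_p2i] at e
      rw [g.injective e, p2i_i2p b hb] at hc
      exact hc
  rw [fixPt_lev_le k b hk] at h
  exact h.trans (hn ▸ Nat.mul_le_mul_left _ hrec)

theorem card_M11 : Nat.card Spor.M11 = 7920 := by
  have h3 := card_lev_step 3 4 8 _ (by decide) (by norm_num) (by decide) (by decide)
    (by decide +kernel) card_lev_four.le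
  have h2 := card_lev_step 2 3 9 _ (by decide) (by norm_num) (by decide) (by decide)
    (by decide +kernel) h3
  have h1 := card_lev_step 1 2 10 _ (by decide) (by norm_num) (by decide) (by decide)
    (by decide +kernel) h2
  have h0 := card_lev_step 0 1 11 _ (by decide) (by norm_num) (by decide) (by decide)
    (by decide +kernel) h1
  exact le_antisymm (le_of_le_of_eq h0 (by norm_num)) card_ge

/-- A fixed point outside the dodecad. -/
def FixesOut (g : Equiv.Perm GolayPt) : Prop :=
  ∃ x : GolayPt, x ∉ Spor.squareDodecad ∧ g x = x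

theorem FixesOut.conj {g h : Equiv.Perm GolayPt} (hh : h ∈ Spor.M11) (H : FixesOut g) :
    FixesOut (h * g * h⁻¹) := by
  obtain ⟨x, hx, hgx⟩ := H
  refine ⟨h x, ?_, by simp [hgx]⟩
  rw [squareDodecad_eq] at hx ⊢
  rwa [← (mem_M11.1 hh).2.1, ← Equiv.Perm.smul_def, Finset.smul_mem_smul_finset_iff]

/-- The check for a list of tables forming a `p`-group all of whose elements have the property. -/
def sylOK (E : List (List ℕ)) (p : ℕ) : Bool :=
  decide E.Nodup && E.contains idTab && E.all (fun t => tabs11.contains t) &&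
    (E.all fun s => E.all fun t => E.contains (compTab s t)) &&
    (E.all fun t => ((List.replicate p t).foldl compTab idTab != idTab) ||
      (List.range 24).any fun i => !maskD.testBit i && app t i == i)

theorem toTab_pow (g : Equiv.Perm GolayPt) : ∀ n,
    toTab (g ^ n) = (List.replicate n (toTab g)).foldl compTab idTab
  | 0 => by rw [pow_zero, toTab_one]; rfl
  | n + 1 => by
    rw [pow_succ, toTab_mul, toTab_pow g n, List.replicate_succ', List.foldl_append]
    rfl

theorem fixesOut_of_sylow (E : List (List ℕ)) {p e : ℕ} [hp : Fact p.Prime]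
    (hok : sylOK E p = true) (hlen : E.length = p ^ e) (hfac : Nat.factorization 7920 p = e)
    {g : Equiv.Perm GolayPt} (hg : g ∈ Spor.M11) (hord : orderOf g = p) : FixesOut g := by
  simp only [sylOK, Bool.and_eq_true, decide_eq_true_eq, List.contains_iff_mem,
    List.all_eq_true, Bool.or_eq_true, bne_iff_ne, List.any_eq_true, List.mem_range,
    Bool.not_eq_true', beq_iff_eq] at hok
  obtain ⟨⟨⟨⟨hnd, hid⟩, hmem⟩, hclosed⟩, hfix⟩ := hok
  let H : Subgroup Spor.M11 := subgroupOfIdempotent {x | toTab x.1 ∈ E}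
    ⟨1, by simpa [toTab_one] using hid⟩ (by
      apply Set.Subset.antisymm
      · rintro x ⟨a, ha, b, hb, rfl⟩
        show toTab (a.1 * b.1) ∈ E
        rw [toTab_mul]
        exact hclosed _ ha _ hb
      · intro x hx
        exact ⟨1, show toTab 1 ∈ E by rw [toTab_one]; exact hid, x, hx, one_mul x⟩)
  have hH : Nat.card H = p ^ e := by
    rw [← hlen, ← List.toFinset_card_of_nodup hnd, ← Nat.card_eq_finsetCard]
    refine Nat.card_congr (Equiv.ofBijective
      (fun x => ⟨toTab x.1.1, List.mem_toFinset.2 x.2⟩) ⟨?_, ?_⟩)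
    · intro a b h
      exact Subtype.ext (Subtype.ext (toTab_injective (congrArg Subtype.val h :)))
    · rintro ⟨t, ht⟩
      obtain ⟨k, hk, hkt⟩ := rep11 t (hmem t (List.mem_toFinset.1 ht))
      exact ⟨⟨⟨k, hk⟩, show toTab k ∈ E by rw [hkt]; exact List.mem_toFinset.1 ht⟩,
        Subtype.ext hkt⟩
  let P := Sylow.ofCard (G := Spor.M11) (p := p) H (by rw [hH, card_M11, hfac])
  let x : Spor.M11 := ⟨g, hg⟩
  have hx : IsPGroup p (Subgroup.zpowers x) := IsPGroup.of_card (n := 1) (by
    rw [Nat.card_zpowers, ← Subgroup.orderOf_coe, pow_one]; exact hord)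
  obtain ⟨Q, hQ⟩ := hx.exists_le_sylow
  obtain ⟨c, hc⟩ := MulAction.exists_smul_eq Spor.M11 P Q
  have hxQ : x ∈ (c • P : Sylow p Spor.M11) := by
    rw [hc]; exact hQ (Subgroup.mem_zpowers x)
  replace hxQ : x ∈ ((c • P : Sylow p Spor.M11) : Subgroup Spor.M11) := hxQ
  rw [Sylow.coe_subgroup_smul, Subgroup.mem_pointwise_smul_iff_inv_smul_mem,
    MulAut.smul_def, MulAut.conj_inv_apply] at hxQ
  have hyE : toTab ((c : Equiv.Perm GolayPt)⁻¹ * g * c) ∈ E := hxQ
  have hpow : ((c : Equiv.Perm GolayPt)⁻¹ * g * c) ^ p = 1 := by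
    have hz : g ^ p = 1 := hord ▸ pow_orderOf_eq_one g
    have := conj_pow (a := (c : Equiv.Perm GolayPt)⁻¹) (b := g) (i := p)
    rw [inv_inv, hz, mul_one, inv_mul_cancel] at this
    exact this
  have hf := hfix _ hyE
  rw [← toTab_pow, hpow, toTab_one] at hf
  obtain ⟨i, hi, hiD, hfixi⟩ := hf.resolve_left (fun h => h rfl)
  rw [app_toTab _ i hi] at hfixi
  have hy : FixesOut ((c : Equiv.Perm GolayPt)⁻¹ * g * c) := by
    refine ⟨i2p i, ?_, ?_⟩
    · rw [squareDodecad_eq, mem_ofMask_iff, p2i_i2p i hi]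
      simp [hiD]
    · conv_rhs => rw [← hfixi, i2p_p2i]
  have := hy.conj c.2
  rwa [show (c : Equiv.Perm GolayPt) * ((c : Equiv.Perm GolayPt)⁻¹ * g * c) *
    (c : Equiv.Perm GolayPt)⁻¹ = g by group] at this

theorem fixesOut {g : Equiv.Perm GolayPt} (hg : g ∈ Spor.M11) (hord : (orderOf g).Prime) :
    FixesOut g := by
  haveI hp : Fact (orderOf g).Prime := ⟨hord⟩
  by_cases h2 : orderOf g = 2
  · haveI : Fact (Nat.Prime 2) := ⟨Nat.prime_two⟩
    exact fixesOut_of_sylow syl2 (p := 2) (e := 4) (by decide +kernel) (by decide +kernel)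
      ((Nat.factorization_def _ Nat.prime_two).trans (by
        rw [show (7920 : ℕ) = 2 ^ 4 * 495 by norm_num, padicValNat.mul (by norm_num) (by norm_num),
          padicValNat.prime_pow, padicValNat.eq_zero_of_not_dvd (by norm_num)])) hg h2
  by_cases h3 : orderOf g = 3
  · haveI : Fact (Nat.Prime 3) := ⟨Nat.prime_three⟩
    exact fixesOut_of_sylow syl3 (p := 3) (e := 2) (by decide +kernel) (by decide +kernel)
      ((Nat.factorization_def _ Nat.prime_three).trans (by
        rw [show (7920 : ℕ) = 3 ^ 2 * 880 by norm_num, padicValNat.mul (by norm_num) (by norm_num),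
          padicValNat.prime_pow, padicValNat.eq_zero_of_not_dvd (by norm_num)])) hg h3
  · classical
    have hp5 : ¬ orderOf g ∣ 12 := by
      intro h
      rw [show (12 : ℕ) = 2 * 2 * 3 by norm_num] at h
      rcases (hord.dvd_mul.1 h) with h | h
      · exact h2 ((Nat.prime_dvd_prime_iff_eq hord Nat.prime_two).1 ((hord.dvd_mul.1 h).elim id id))
      · exact h3 ((Nat.prime_dvd_prime_iff_eq hord Nat.prime_three).1 h)
    have hD := (mem_M11.1 hg).2.1
    have hinv : ∀ x, x ∉ Spor.squareDodecad ↔ g x ∉ Spor.squareDodecad := by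
      intro x
      rw [squareDodecad_eq]
      conv_rhs => rw [← hD, ← Equiv.Perm.smul_def, Finset.smul_mem_smul_finset_iff]
    let σ : Equiv.Perm {x : GolayPt // x ∉ Spor.squareDodecad} := g.subtypePerm (fun x => (hinv x).symm)
    have hcard : ¬ orderOf g ∣ Fintype.card {x : GolayPt // x ∉ Spor.squareDodecad} := by
      rwa [show Fintype.card {x : GolayPt // x ∉ Spor.squareDodecad} = 12 from by decide +kernel]
    have hσ : σ ^ (orderOf g) ^ 1 = 1 := by
      ext x : 2
      simp [σ, Equiv.Perm.subtypePerm_pow, pow_orderOf_eq_one]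
    obtain ⟨x, hx⟩ := Equiv.Perm.exists_fixed_point_of_prime hcard hσ
    exact ⟨x, x.2, congrArg Subtype.val hx⟩

end CfsgLib.M11Elusive
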